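import Cfsg.Agent.Spor.J4N.ZB.D0

set_option autoImplicit false
set_option maxRecDepth 100000000
set_option Elab.async false

namespace Cfsg.Agent.Spor.J4N.ZB

theorem uok3 : Net.okb 11 un3 = true := by decide +kernel

theorem rel3 : U.rel 11 [7, 2, 4, 2, 3, 2, 3, 2, 3, 2, 3, 2, 4, 2, 4, 2, 4, 2, 4, 2, 3, 2] 0 11 = true := by decide +kernel

theorem uok4 : Net.okb 11 un4 = true := by decide +kernel

theorem rel4 : U.rel 11 [9, 2, 4, 2, 3, 2, 3, 2, 3, 2, 4, 2, 3, 2, 4, 2, 4, 2, 4, 2, 3, 2] 0 11 = true := by decide +kernel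

theorem uok5 : Net.okb 11 un5 = true := by decide +kernel

theorem rel5 : U.rel 11 [11, 2, 6, 2] 0 11 = true := by decide +kernel

theorem gr8 : sub M7 (U.growI W6 [3, 2, 1, 0, 0, 1, 2, 3, 2, 1, 0, 0, 1, 2, 3, 2, 1, 0, 0, 1, 2, 3] (Nat.shiftLeft 1 0)) = true := by decide +kernel

theorem cl10 : band (U.closedW W6 M7) (sub (Nat.shiftLeft 1 0) M7) = true := by decide +kernel

theorem sz11 : sizeOk 11 M7 2048 = true := by decide +kernel

theorem fx14 : U.closedW W13 (Nat.shiftLeft 1 0) = true := by decide +kernel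

theorem uok6 : Net.okb 11 un6 = true := by decide +kernel

theorem rel15 : U.rel 11 [13, 3, 9, 9, 7, 9, 3, 9, 7, 9, 9, 9, 3, 9, 3, 7, 3, 7, 3, 7, 9] 0 11 = true := by decide +kernel

theorem uok7 : Net.okb 11 un7 = true := by decide +kernel

theorem rel16 : U.rel 11 [15, 7, 9, 3, 9, 9, 9, 3, 3, 7, 9, 3, 9, 3, 9, 9, 9, 7, 7, 9, 3, 9, 3, 7, 3, 7, 3, 3, 7, 9, 3, 9] 0 11 = true := by decide +kernel

theorem uok8 : Net.okb 11 un8 = true := by decide +kernel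

theorem rel17 : U.rel 11 [17, 7, 3, 7, 7, 9, 9, 7, 3, 9, 9, 9, 7, 3, 9, 7, 7, 7, 9, 3, 9, 9, 3, 3, 9, 9, 3, 3, 7, 7, 7, 9, 3, 9, 7, 9, 3, 7, 9, 3, 9, 7, 7, 9, 9, 3, 3, 7, 7, 3, 3, 9, 3, 9, 3, 7, 7, 9, 7, 7, 7, 3, 3, 9, 7, 3, 3] 0 11 = true := by decide +kernel

theorem gr19 : sub M18 (U.growI W13 [0, 1, 2, 1, 0, 0, 1, 2, 1, 0, 0, 1, 2, 1, 0, 0, 1, 2, 1] (Nat.shiftLeft 1 7)) = true := by decide +kernel

theorem cl21 : band (U.closedW W13 M18) (sub (Nat.shiftLeft 1 7) M18) = true := by decide +kernel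

theorem sz22 : sizeOk 11 M18 1440 = true := by decide +kernel

theorem fx25 : U.closedW W24 (Nat.shiftLeft 1 7) = true := by decide +kernel

theorem gr27 : sub M26 (U.growI W24 [0, 1, 2, 1, 0, 0, 1, 2, 1, 0, 0] (Nat.shiftLeft 1 42)) = true := by decide +kernel

theorem cl29 : band (U.closedW W24 M26) (sub (Nat.shiftLeft 1 42) M26) = true := by decide +kernel

theorem sz30 : sizeOk 11 M26 96 = true := by decide +kernel

end Cfsg.Agent.Spor.J4N.ZB
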