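import Cfsg.Agent.Spor.Prim
import Cfsg.Agent.Spor.J4N.Main
import Cfsg.Agent.Spor.J4N.ZB.C0
import Cfsg.Agent.Spor.TT2
import Cfsg.Agent.Spor.DE3
import Cfsg.Agent.Spor.J4N.Grp

set_option autoImplicit false
set_option maxRecDepth 100000000
set_option Elab.async false

namespace Cfsg.Agent.Spor.J4N.ZB

theorem hU : U.Ok 11 := U.ok_of 11 (show AllP (fun n => Net.okb 11 n = true) [n0, n1, n2, un3, un4, un5, un6, un7, un8] from AllP.cons ok0 (AllP.cons ok1 (AllP.cons ok2 (AllP.cons uok3 (AllP.cons uok4 (AllP.cons uok5 (AllP.cons uok6 (AllP.cons uok7 (AllP.cons uok8 (AllP.nil))))))))))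

theorem hfP : ∀ j < 3, U.fP [1, 3, 5] j = fP j := by
  intro j hj
  interval_cases j <;> rfl
theorem eG : gsub 3 fP = U.lsub W1 := (gsub_congr hfP).symm.trans (lsub_eq_gsub U [1, 3, 5])
theorem upz1 : ev (atm 3 fP) [0] = U.τ 1 := pz1
theorem upz3 : ev (atm 3 fP) [2] = U.τ 3 := pz2
theorem upz5 : ev (atm 3 fP) [4] = U.τ 5 := pz3
theorem eH : wsub 3 fP BW = U.lsub W2 :=
  lsub_eq_of_all₂ (show List.Forall₂ _ [] [] from List.Forall₂.nil)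
theorem vpz1 : PZ U (atm 3 fP) EXU 1 := pz1
theorem vpz2 : PZ U (atm 3 fP) EXU 2 := PZ.of_inv hiv vpz1 (by decide +kernel)
theorem vpz3 : PZ U (atm 3 fP) EXU 3 := pz2
theorem vpz4 : PZ U (atm 3 fP) EXU 4 := PZ.of_inv hiv vpz3 (by decide +kernel)
theorem vpz5 : PZ U (atm 3 fP) EXU 5 := pz3
theorem vpz6 : PZ U (atm 3 fP) EXU 6 := PZ.of_inv hiv vpz5 (by decide +kernel)
theorem vpz7 : PZ U (atm 3 fP) EXU 7 := PZ.of_def hiv (d := [2, 4, 2, 3, 2, 3, 2, 3, 2, 3, 2, 4, 2, 4, 2, 4, 2, 4, 2, 3, 2]) (AllP.cons vpz2 (AllP.cons vpz4 (AllP.cons vpz2 (AllP.cons vpz3 (AllP.cons vpz2 (AllP.cons vpz3 (AllP.cons vpz2 (AllP.cons vpz3 (AllP.cons vpz2 (AllP.cons vpz3 (AllP.cons vpz2 (AllP.cons vpz4 (AllP.cons vpz2 (AllP.cons vpz4 (AllP.cons vpz2 (AllP.cons vpz4 (AllP.cons vpz2 (AllP.cons vpz4 (AllP.cons vpz2 (AllP.cons vpz3 (AllP.cons vpz2 (AllP.nil))))))))))))))))))))))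 (hU.one rel3) (by decide +kernel)
theorem vpz8 : PZ U (atm 3 fP) EXU 8 := PZ.of_inv hiv vpz7 (by decide +kernel)
theorem vpz9 : PZ U (atm 3 fP) EXU 9 := PZ.of_def hiv (d := [2, 4, 2, 3, 2, 3, 2, 3, 2, 4, 2, 3, 2, 4, 2, 4, 2, 4, 2, 3, 2]) (AllP.cons vpz2 (AllP.cons vpz4 (AllP.cons vpz2 (AllP.cons vpz3 (AllP.cons vpz2 (AllP.cons vpz3 (AllP.cons vpz2 (AllP.cons vpz3 (AllP.cons vpz2 (AllP.cons vpz4 (AllP.cons vpz2 (AllP.cons vpz3 (AllP.cons vpz2 (AllP.cons vpz4 (AllP.cons vpz2 (AllP.cons vpz4 (AllP.cons vpz2 (AllP.cons vpz4 (AllP.cons vpz2 (AllP.cons vpz3 (AllP.cons vpz2 (AllP.nil)))))))))))))))))))))) (hU.one rel4) (by decide +kernel)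
theorem vpz10 : PZ U (atm 3 fP) EXU 10 := PZ.of_inv hiv vpz9 (by decide +kernel)
theorem vpz11 : PZ U (atm 3 fP) EXU 11 := PZ.of_def hiv (d := [2, 6, 2]) (AllP.cons vpz2 (AllP.cons vpz6 (AllP.cons vpz2 (AllP.nil)))) (hU.one rel5) (by decide +kernel)
theorem vpz12 : PZ U (atm 3 fP) EXU 12 := PZ.of_inv hiv vpz11 (by decide +kernel)
theorem hPZU : AllP (PZ U (atm 3 fP) EXU) LU :=
  show AllP (PZ U (atm 3 fP) EXU) [1, 2, 3, 4, 5, 6, 7, 8, 9, 10, 11, 12] from AllP.cons vpz1 (AllP.cons vpz2 (AllP.cons vpz3 (AllP.cons vpz4 (AllP.cons vpz5 (AllP.cons vpz6 (AllP.cons vpz7 (AllP.cons vpz8 (AllP.cons vpz9 (AllP.cons vpz10 (AllP.cons vpz11 (AllP.cons vpz12 (AllP.nil))))))))))))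
theorem eH0 : wsub 3 fP [[2], [0, 2, 0, 3, 0, 3, 0, 3, 0, 3, 0, 2, 0, 2, 0, 2, 0, 2, 0, 3, 0], [0, 2, 0, 3, 0, 3, 0, 3, 0, 2, 0, 3, 0, 2, 0, 2, 0, 2, 0, 3, 0], [0, 4, 0]] = U.lsub W6 :=
  lsub_eq_of_all₂ (show List.Forall₂ _ [[2], [0, 2, 0, 3, 0, 3, 0, 3, 0, 3, 0, 2, 0, 2, 0, 2, 0, 2, 0, 3, 0], [0, 2, 0, 3, 0, 3, 0, 3, 0, 2, 0, 3, 0, 2, 0, 2, 0, 2, 0, 3, 0], [0, 4, 0]] [[3], [7], [9], [11]] from List.Forall₂.cons ((show ev (atm 3 fP) [2] = U.τ 3 from vpz3).trans (one_mul _).symm) (List.Forall₂.cons ((show ev (atm 3 fP) [0, 2, 0, 3, 0, 3, 0, 3, 0, 3, 0, 2, 0, 2, 0, 2, 0, 2, 0, 3, 0] = U.τ 7 from vpz7).trans (one_mul _).symm) (List.Forall₂.cons ((show ev (atm 3 fP) [0, 2, 0, 3, 0, 3, 0, 3, 0, 2, 0, 3, 0, 2, 0, 2, 0, 2, 0, 3, 0] = U.τ 9 from vpz9).trans (one_mul _).symm) (List.Forall₂.cons ((show ev (atm 3 fP) [0, 4, 0] = U.τ 11 from vpz11).trans (one_mul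 _).symm) (List.Forall₂.nil)))))
theorem reach9 : Reach (U.lsub W6) 0 M7 := (Reach.grow hU (Reach.base _ 0) gr8)
theorem orb12 : (orbS (U.lsub W6) 0).ncard = 2048 := reach9.ncard hU cl10 sz11
theorem orb12e : orbS (U.lsub W6) 0 = {c | Nat.testBit M7 c = true} := reach9.orb hU cl10
theorem reach20 : Reach (U.lsub W13) 7 M18 := (Reach.grow hU (Reach.base _ 7) gr19)
theorem orb23 : (orbS (U.lsub W13) 7).ncard = 1440 := reach20.ncard hU cl21 sz22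
theorem orb23e : orbS (U.lsub W13) 7 = {c | Nat.testBit M18 c = true} := reach20.orb hU cl21
theorem reach28 : Reach (U.lsub W24) 42 M26 := (Reach.grow hU (Reach.base _ 42) gr27)
theorem orb31 : (orbS (U.lsub W24) 42).ncard = 96 := reach28.ncard hU cl29 sz30
theorem orb31e : orbS (U.lsub W24) 42 = {c | Nat.testBit M26 c = true} := reach28.orb hU cl29
theorem lbH32 : 96 ∣ Nat.card (U.lsub W24) := dvd_card_orb orb31
theorem lbH33 : 138240 ∣ Nat.card (U.lsub W13) :=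
  dvd_card_step (s := 1440) (M := 96) (B := U.lsub W24) (Tab.lsub_le_all (AllP.cons (mem_of_rel (hU.one rel15) (U.mem_letters (by decide))) (AllP.cons (mem_of_rel (hU.one rel16) (U.mem_letters (by decide))) (AllP.cons (mem_of_rel (hU.one rel17) (U.mem_letters (by decide))) (AllP.nil))))) (hU.fixes fx25) orb23 lbH32
theorem lbH : 283115520 ∣ Nat.card (U.lsub W6) :=
  dvd_card_step (s := 2048) (M := 138240) (B := U.lsub W13) (U.lsub_sub (by decide)) (hU.fixes fx14) orb12 lbH33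
def HW : List (List ℕ) := [[2], [0, 2, 0, 3, 0, 3, 0, 3, 0, 3, 0, 2, 0, 2, 0, 2, 0, 2, 0, 3, 0], [0, 2, 0, 3, 0, 3, 0, 3, 0, 2, 0, 3, 0, 2, 0, 2, 0, 2, 0, 3, 0], [0, 4, 0]]
theorem cardH : 283115520 ∣ Nat.card (wsub 3 p HW) := by
  rw [HW, card_wsub_lift, eH0]; exact lbH

end Cfsg.Agent.Spor.J4N.ZB
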